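import Cfsg.Agent.KFacts.Co1.RIrr
import Cfsg.Agent.KFacts.Co1.Perf
import Cfsg.Agent.CoOneType.InvClasses

/-!
# Normal 2-subgroups of the centralizer of an octad sign change in `Co0`

`comm_le_Rh`: a 2-subgroup `Q` of `C0 o` normalised by `C0 o` acts diagonally on the lattice vectors
`8 e_i`, `i ∈ o`; so `⁅Q, Q⁆ ≤ Rh o`, in particular `-1 ∉ ⁅Q, Q⁆`.
-/

set_option autoImplicit false
open Cfsg
open scoped Pointwise commutatorElement

namespace Cfsg.Agent.OddHalf.D9.Co1.Label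

open Cfsg.Agent.SporadicA.Co0Mono Cfsg.Agent.SporadicA.Co1Simple
open Cfsg.Agent.SporadicStructure.Co0Base (e8 e8_coe)
open Cfsg.Agent.CoOneType.SignFacts (sup mem_sup notMem_sup wt sup_mem)
open Cfsg.Agent.CoOneType.CentOctad (C0 mem_C0 sign_mem perm_mem xi_mem exists_sextet)
open Cfsg.Agent.KFacts.Co1.OctGen (mem_N_of_smul_e8 sign_inj)
open Cfsg.Agent.KFacts.Co1.OctPts
open Cfsg.Agent.KFacts.Co1.RHat
open Cfsg.Agent.KFacts.Co1
open Cfsg.Agent.SporadicA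

variable {o : golayCode}

theorem xi_e8_ne_zero {T : GolayPt → Fin 6} (hT : Xi.IsSextet T) (i j : GolayPt) :
    ((Xi.xiCo0 T hT • e8 j : leechLattice) : GolayPt → ℤ) i ≠ 0 ↔ T i = T j := by
  rw [Cfsg.Agent.CoOneType.InvClasses.xi_e8 hT]
  constructor
  · intro h
    by_contra hne
    apply h
    have hij : ¬ i = j := fun h => hne (by rw [h])
    rw [if_neg hne, if_neg hij, sub_zero, mul_zero]
  · intro h
    rw [if_pos h]
    split_ifs <;> norm_num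

/-- A monomial element which stays monomial under conjugation with `ξ_T` permutes the tetrads. -/
theorem tetrad {T : GolayPt → Fin 6} (hT : Xi.IsSextet T) {c : golayCode} {σ : M24}
    (h : (Xi.xiCo0 T hT)⁻¹ * (signCo0 c * permCo0 σ) * Xi.xiCo0 T hT ∈ N) (j : GolayPt) :
    ∃ k : Fin 6, ∀ i, T i = T j ↔ T ((σ : Equiv.Perm GolayPt) i) = k := by
  set x := Xi.xiCo0 T hT with hx
  have h1 : (x⁻¹ * (signCo0 c * permCo0 σ) * x) • e8 j ∈ crossSet := by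
    obtain ⟨d, τ, hd⟩ := exists_sign_perm h
    rw [hd, mul_smul, perm_smul_e8, mem_crossSet]
    exact ⟨_, sgn_smul_e8 d _⟩
  rw [mem_crossSet] at h1
  obtain ⟨m, hm⟩ := h1
  refine ⟨T m, fun i => ?_⟩
  have h2 : (signCo0 c * permCo0 σ) • (x • e8 j) = x • ((x⁻¹ * (signCo0 c * permCo0 σ) * x) • e8 j) := by
    rw [← mul_smul, ← mul_smul]
    congr 1
    group
  have h3 : (((signCo0 c * permCo0 σ) • (x • e8 j) : leechLattice) : GolayPt → ℤ)
      ((σ : Equiv.Perm GolayPt) i) ≠ 0 ↔ ((x • e8 j : leechLattice) : GolayPt → ℤ) i ≠ 0 := by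
    rw [mul_smul, signCo0_smul, signMap_apply, permCo0_smul, permMap_apply, Equiv.symm_apply_apply]
    have h4 : sgn ((c : GolayPt → ZMod 2) ((σ : Equiv.Perm GolayPt) i)) ≠ 0 := by
      intro h5
      have h6 := sgn_mul_self ((c : GolayPt → ZMod 2) ((σ : Equiv.Perm GolayPt) i))
      rw [h5] at h6
      norm_num at h6
    rw [mul_ne_zero_iff]
    exact ⟨fun h => h.2, fun h => ⟨h4, h⟩⟩
  rw [← xi_e8_ne_zero hT i j, ← hx, ← h3, h2, ← xi_e8_ne_zero hT _ m, ← hx]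
  rcases hm with hm | hm
  · rw [hm]
  · rw [hm, Co0Mono.smul_neg]
    exact neg_ne_zero

/-- The combinatorial step. -/
theorem fix_of {O : Finset GolayPt} (hO : O.card = 8) {σ : Equiv.Perm GolayPt}
    (hσ : ∀ i ∈ O, σ i ∈ O)
    (h : ∀ S ⊆ O, S.card = 4 → (∀ i ∈ S, σ i ∈ S) ∨ ∀ i ∈ S, σ i ∉ S) : ∀ a ∈ O, σ a = a := by
  classical
  intro a ha
  by_contra hne
  -- choose `c ≠ a, b`, `b = σ a`
  obtain ⟨c, hc⟩ : ((O.erase a).erase (σ a)).Nonempty := by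
    rw [← Finset.card_pos, Finset.card_erase_of_mem (Finset.mem_erase.2 ⟨hne, hσ a ha⟩),
      Finset.card_erase_of_mem ha, hO]
    norm_num
  rw [Finset.mem_erase, Finset.mem_erase] at hc
  obtain ⟨hcb, hca, hcO⟩ := hc
  have hcσ : σ c ≠ σ a := fun h => hca (σ.injective h)
  have hsub : ({a, c, σ c} : Finset GolayPt) ⊆ O.erase (σ a) := by
    intro x hx
    rw [Finset.mem_insert, Finset.mem_insert, Finset.mem_singleton] at hx
    rw [Finset.mem_erase]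
    rcases hx with rfl | rfl | rfl
    · exact ⟨fun h => hne h.symm, ha⟩
    · exact ⟨hcb, hcO⟩
    · exact ⟨hcσ, hσ c hcO⟩
  have hcard : (O.erase (σ a)).card = 7 := by
    rw [Finset.card_erase_of_mem (hσ a ha), hO]
  obtain ⟨S, h1, h2, h3⟩ := Finset.exists_subsuperset_card_eq hsub (n := 4)
    ((Finset.card_le_three).trans (by norm_num)) (by omega)
  have hS : S ⊆ O := h2.trans (Finset.erase_subset _ _)
  have haS : a ∈ S := h1 (by simp)
  have hcS : c ∈ S := h1 (by simp)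
  have hcS' : σ c ∈ S := h1 (by simp)
  have hbS : σ a ∉ S := fun h => (Finset.mem_erase.1 (h2 h)).1 rfl
  rcases h S hS h3 with h4 | h4
  · exact hbS (h4 a haS)
  · exact h4 c hcS hcS'

theorem le_of_odd {A : Type*} [Group A] [Finite A] {M C Q : Subgroup A}
    (hodd : ¬ 2 ∣ M.relIndex C) (hQ : Q ≤ C) (hQ2 : IsPGroup 2 Q)
    (hn : ∀ g ∈ C, ∀ x ∈ Q, g * x * g⁻¹ ∈ Q) : Q ≤ M := by
  have hP : IsPGroup 2 (Q.subgroupOf C) := hQ2.comap_of_injective C.subtype C.subtype_injective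
  obtain ⟨x, hx⟩ := hP.nonempty_fixed_point_of_prime_not_dvd_card (C ⧸ M.subgroupOf C) hodd
  obtain ⟨g, rfl⟩ := QuotientGroup.mk_surjective x
  intro q hq
  have h1 : (g : A) * q * (g : A)⁻¹ ∈ Q := hn g g.2 q hq
  have h2 := hx ⟨⟨(g : A) * q * (g : A)⁻¹, hQ h1⟩, h1⟩
  have h3 : (((⟨(g : A) * q * (g : A)⁻¹, hQ h1⟩ : C) * g : C) : C ⧸ M.subgroupOf C) =
      ((g : C) : C ⧸ M.subgroupOf C) := h2
  rw [eq_comm, QuotientGroup.eq] at h3
  have h4 : (g : A)⁻¹ * ((g : A) * q * (g : A)⁻¹ * g) ∈ M := h3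
  have h5 : (g : A)⁻¹ * ((g : A) * q * (g : A)⁻¹ * g) = q := by group
  rwa [h5] at h4

theorem comm_le_Rh (ho : wt o = 8) {Q : Subgroup Co0} (hQ : Q ≤ C0 o) (hQ2 : IsPGroup 2 Q)
    (hn : ∀ g ∈ C0 o, ∀ x ∈ Q, g * x * g⁻¹ ∈ Q) : ⁅Q, Q⁆ ≤ Rh o := by
  have : Finite Co0 := Cfsg.Agent.CoOneType.FrameFix.finite_co0
  have hodd : ¬ 2 ∣ (N ⊓ C0 o).relIndex (C0 o) := by
    intro h
    have h1 := Subgroup.relIndex_mul_index (inf_le_right : N ⊓ C0 o ≤ C0 o)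
    rw [Perf.index_inf ho] at h1
    obtain ⟨k, hk⟩ := h
    rw [hk] at h1
    have : (2 * (k * (C0 o).index)) = 6293912625 := by rw [← h1]; ring
    omega
  have hQN : Q ≤ N ⊓ C0 o := le_of_odd hodd hQ hQ2 hn
  -- elements of `Q` fix the points of `o`
  have hdiag : ∀ q ∈ Q, ∀ i ∈ sup o, q • e8 i = e8 i ∨ q • e8 i = -e8 i := by
    intro q hq i hi
    obtain ⟨c, σ, hσ, rfl⟩ := Perf.mem_inf_iff.1 (hQN hq)
    have hfix : (σ : Equiv.Perm GolayPt) i = i := by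
      refine fix_of (O := sup o) ho (fun i hi => (So_apply hσ i).2 hi) ?_ i hi
      intro S hS hS4
      obtain ⟨T, hT, hT0, hTo, -⟩ := exists_sextet ho hS4 hS
      have hx : Xi.xiCo0 T hT ∈ C0 o := xi_mem hT hTo
      have h1 : (Xi.xiCo0 T hT)⁻¹ * (signCo0 c * permCo0 σ) * Xi.xiCo0 T hT ∈ N := by
        have h2 := hn _ ((C0 o).inv_mem hx) _ hq
        rw [inv_inv] at h2
        exact (hQN h2).1
      obtain ⟨j, hj⟩ : S.Nonempty := by rw [← Finset.card_pos, hS4]; norm_num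
      obtain ⟨k, hk⟩ := tetrad hT h1 j
      have hmem : ∀ p, p ∈ S ↔ T p = 0 := fun p => by rw [← hT0, Xi.mem_fib]
      have hTj : T j = 0 := (hmem j).1 hj
      rw [hTj] at hk
      by_cases hk0 : k = 0
      · left
        intro p hp
        rw [hmem, ← hk0, ← hk p, ← hmem]
        exact hp
      · right
        intro p hp h3
        rw [hmem] at h3
        exact hk0 (((hk p).1 ((hmem p).1 hp)).symm.trans h3)
    rw [mul_smul, perm_smul_e8, hfix]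
    exact sgn_smul_e8 c i
  rw [Subgroup.commutator_le]
  intro a ha b hb
  rw [mem_Rh_iff]
  intro i hi
  have key : ∀ q ∈ Q, ∃ s : ℤ, (s = 1 ∨ s = -1) ∧ q • e8 i = s • e8 i := by
    intro q hq
    rcases hdiag q hq i hi with h | h
    · exact ⟨1, Or.inl rfl, by rw [h, one_smul]⟩
    · exact ⟨-1, Or.inr rfl, by rw [h, neg_one_smul]⟩
  obtain ⟨s, hs, h1⟩ := key a ha
  obtain ⟨t, ht, h2⟩ := key b hb
  obtain ⟨s', hs', h1'⟩ := key a⁻¹ (Q.inv_mem ha)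
  obtain ⟨t', ht', h2'⟩ := key b⁻¹ (Q.inv_mem hb)
  have e1 : a • (a⁻¹ • e8 i) = e8 i := smul_inv_smul _ _
  have e2 : b • (b⁻¹ • e8 i) = e8 i := smul_inv_smul _ _
  rw [h1', smul_zsmul, h1] at e1
  rw [h2', smul_zsmul, h2] at e2
  have f1 : a⁻¹ • (b⁻¹ • e8 i) = t' • s' • e8 i := by rw [h2', smul_zsmul, h1']
  have f2 : b • (a⁻¹ • (b⁻¹ • e8 i)) = t' • s' • t • e8 i := by
    rw [f1, smul_zsmul, smul_zsmul, h2]
  have f3 : a • (b • (a⁻¹ • (b⁻¹ • e8 i))) = t' • s' • t • s • e8 i := by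
    rw [f2, smul_zsmul, smul_zsmul, smul_zsmul, h1]
  rw [commutatorElement_def, mul_smul, mul_smul, mul_smul, f3]
  rw [smul_smul] at e1 e2
  rw [smul_smul, smul_smul, smul_smul]
  have e3 : t' * s' * t * s = (s' * s) * (t' * t) := by ring
  rw [e3, ← smul_smul, e2, e1]

theorem allOne_notMem (ho : wt o = 8) {Q : Subgroup Co0} (hQ : Q ≤ C0 o) (hQ2 : IsPGroup 2 Q)
    (hn : ∀ g ∈ C0 o, ∀ x ∈ Q, g * x * g⁻¹ ∈ Q) : signCo0 allOne ∉ ⁅Q, Q⁆ :=
  fun h => RIrr.allOne_notMem ho (comm_le_Rh ho hQ hQ2 hn h)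

end Cfsg.Agent.OddHalf.D9.Co1.Label
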