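import Cfsg.Agent.OddHalf.D9.Isolated
import Cfsg.Agent.OddHalf.D9.Co1.Label
import Cfsg.Agent.CoOneType.InvMain
import Cfsg.Agent.CoOneType.ClosingFacts
import Cfsg.Agent.S0367

/-!
# The facts on `Co0` for the row `2.Co1`

`facts : Isolated.Facts Co0 (-1) P D` where `P` (`D`) are the conjugates of the sign changes on the octads
(dodecads).
-/

set_option autoImplicit false
set_option Elab.async false
open Cfsg
open scoped Pointwise commutatorElement

namespace Cfsg.Agent.OddHalf.D9.Co1.Facts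

open Cfsg.Agent.SporadicA.GolayBase Cfsg.Agent.SporadicA.GolayPerm
open Cfsg.Agent.SporadicStructure.M24El
open Cfsg.Agent.SporadicA.Co0Mono Cfsg.Agent.SporadicA.Co1Simple
open Cfsg.Agent.SporadicStructure.Co0Base (e8 e8_coe)
open Cfsg.Agent.Co2Type.Mono
open Cfsg.Agent.CoOneType.InvMain (b0 b0m isCode_b0m b0m_xor cd_all conj_sign_of_sq_one
  conj_b0_of_sq_neg)
open Cfsg.Agent.CoOneType.SignFacts (sup mem_sup notMem_sup wt sup_mem wt_cases wt_add_allOne
  sign_allOne_comm)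
open Cfsg.Agent.CoOneType.ClosingFacts (mem_center_iff eq_zero_of_wt eq_allOne_of_wt)
open Cfsg.Agent.CoOneType.CentOctad (C0 mem_C0 sign_mem perm_mem)
open Cfsg.Agent.KFacts.Co1.OctGen (sign_inj)
open Cfsg.Agent.KFacts.Co1.OctPts (exists_notMem exists_disj fo_trans fo_word)
open Cfsg.Agent.KFacts.Co1.RHat
open Cfsg.Agent.KFacts.Co1
open Cfsg.Agent.J4.M24InvolData (P2)
open Cfsg.Agent.J4.M24Invol (ok_P2)
open Cfsg.Agent.OddHalf.D9.Isolated (Lab mem_centralizer_iff')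

/-- The central involution. -/
noncomputable abbrev ζ : Co0 := signCo0 allOne

/-- Conjugate to the sign change on an octad. -/
def P (k : Co0) : Prop := ∃ (g : Co0) (c : golayCode), wt c = 8 ∧ g * k * g⁻¹ = signCo0 c

/-- Conjugate to the sign change on a dodecad. -/
def D (k : Co0) : Prop := ∃ (g : Co0) (c : golayCode), wt c = 12 ∧ g * k * g⁻¹ = signCo0 c

theorem sup_cd {m : ℕ} (h : isCode m = true) : sup (cd m) = fin m := by
  unfold sup
  rw [coe_cd h]
  exact support₂_word m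

theorem wt_cd {m : ℕ} (h : isCode m = true) : wt (cd m) = popcount m := by
  unfold wt
  rw [sup_cd h, card_fin]

theorem ζ_eq : ζ = mo 16777215 idP := by
  unfold mo
  rw [el_idP, map_one, mul_one, cd_all]

theorem conj_octad {c d : golayCode} (hc : wt c = 8) (hd : wt d = 8) :
    ∃ g : Co0, g * signCo0 c * g⁻¹ = signCo0 d := by
  obtain ⟨g, hg⟩ := Cfsg.Agent.S0367.result (sup c) (sup d) ⟨sup_mem c, hc⟩ ⟨sup_mem d, hd⟩
  refine ⟨permCo0 g, ?_⟩
  rw [perm_mul_sign_mul_inv, Cfsg.Agent.CoOneType.Thirteen.wordPerm_support g c d hg]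

theorem conj_dodecad {c d : golayCode} (hc : wt c = 12) (hd : wt d = 12) :
    ∃ g : Co0, g * signCo0 c * g⁻¹ = signCo0 d := by
  obtain ⟨g, hg⟩ := Cfsg.Agent.S0368.result (sup c) (sup d) ⟨sup_mem c, hc⟩ ⟨sup_mem d, hd⟩
  refine ⟨permCo0 g, ?_⟩
  rw [perm_mul_sign_mul_inv, Cfsg.Agent.CoOneType.Thirteen.wordPerm_support g c d hg]

theorem ζ_cen (k : Co0) : k * ζ = ζ * k := sign_allOne_comm k

theorem ζ_sq : ζ * ζ = 1 := signCo0_mul_self _

theorem sign_ne_one {c : golayCode} (h : wt c ≠ 0) : signCo0 c ≠ 1 := by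
  intro h1
  rw [← signCo0_zero] at h1
  apply h
  rw [sign_inj h1]
  unfold wt
  rw [Finset.card_eq_zero]
  ext i
  rw [mem_sup]
  simp

theorem sign_ne_ζ {c : golayCode} (h : wt c ≠ 24) : signCo0 c ≠ ζ := by
  intro h1
  have h2 := sign_inj h1
  have h3 := wt_add_allOne c
  rw [h2] at h3
  have h4 : wt (allOne + allOne) = 0 := by
    unfold wt
    rw [Finset.card_eq_zero]
    ext i
    rw [mem_sup]
    have : (allOne + allOne : golayCode) = 0 := OctPts.add_self _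
    rw [this]
    simp
  rw [h4] at h3
  rw [h2] at h
  omega

theorem one_ne : ζ ≠ 1 := sign_ne_one (by
  have h := wt_add_allOne (0 : golayCode)
  rw [zero_add] at h
  have h4 : wt (0 : golayCode) = 0 := by
    unfold wt
    rw [Finset.card_eq_zero]
    ext i
    rw [mem_sup]
    simp
  omega)

/-! ### The commutator property -/

/-- `-1` is a commutator of two elements commuting with `k`. -/
def Cm (k : Co0) : Prop := ∃ u v : Co0, u * k = k * u ∧ v * k = k * v ∧ u * v = ζ * (v * u)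

theorem Cm.conj {k : Co0} (h : Cm k) (g : Co0) : Cm (g * k * g⁻¹) := by
  obtain ⟨u, v, hu, hv, huv⟩ := h
  refine ⟨g * u * g⁻¹, g * v * g⁻¹, ?_, ?_, ?_⟩
  · have e1 : g * u * g⁻¹ * (g * k * g⁻¹) = g * (u * k) * g⁻¹ := by group
    have e2 : g * k * g⁻¹ * (g * u * g⁻¹) = g * (k * u) * g⁻¹ := by group
    rw [e1, e2, hu]
  · have e1 : g * v * g⁻¹ * (g * k * g⁻¹) = g * (v * k) * g⁻¹ := by group
    have e2 : g * k * g⁻¹ * (g * v * g⁻¹) = g * (k * v) * g⁻¹ := by group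
    rw [e1, e2, hv]
  · have e1 : g * u * g⁻¹ * (g * v * g⁻¹) = g * (u * v) * g⁻¹ := by group
    have e2 : g * v * g⁻¹ * (g * u * g⁻¹) = g * (v * u) * g⁻¹ := by group
    rw [e1, e2, huv, ← mul_assoc g, ζ_cen]
    simp only [mul_assoc]

theorem Cm.of_conj {k l g : Co0} (hg : g * k * g⁻¹ = l) (h : Cm l) : Cm k := by
  have h1 := h.conj g⁻¹
  rw [← hg] at h1
  have : g⁻¹ * (g * k * g⁻¹) * g⁻¹⁻¹ = k := by group
  rwa [this] at h1

theorem Cm.neg {k : Co0} (h : Cm k) : Cm (ζ * k) := by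
  obtain ⟨u, v, hu, hv, huv⟩ := h
  refine ⟨u, v, ?_, ?_, huv⟩
  · rw [← mul_assoc, ζ_cen, mul_assoc, hu, mul_assoc]
  · rw [← mul_assoc, ζ_cen, mul_assoc, hv, mul_assoc]

theorem cm_sign {m : ℕ} (hm : isCode m = true) (h : pimg P2 m = m) : Cm (signCo0 (cd m)) := by
  refine ⟨signCo0 (cd b0m), permCo0 (el P2), ?_, ?_, ?_⟩
  · rw [← signCo0_add, ← signCo0_add, add_comm]
  · rw [perm_mul_sign, wordPerm_cd ok_P2 hm, h]
  · rw [perm_mul_sign, wordPerm_cd ok_P2 isCode_b0m, ← mul_assoc, ← signCo0_add]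
    have : (allOne + cd (pimg P2 b0m) : golayCode) = cd b0m := by
      rw [← cd_all, ← b0m_xor, cd_xor isCode_b0m (isCode_pimg ok_P2 isCode_b0m), add_assoc,
        OctPts.add_self, add_zero]
    rw [this]

/-- The octad fixed by `P2`. -/
theorem okO : (isCode 11538486 && Nat.beq (pimg P2 11538486) 11538486 &&
    Nat.beq (popcount 11538486) 8) = true := by decide +kernel

/-- The dodecad fixed by `P2`. -/
theorem okD : (isCode 13553934 && Nat.beq (pimg P2 13553934) 13553934 &&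
    Nat.beq (popcount 13553934) 12) = true := by decide +kernel

theorem cm_octad {c : golayCode} (hc : wt c = 8) : Cm (signCo0 c) := by
  have h := okO
  rw [Bool.and_eq_true, Bool.and_eq_true, Nat.beq_eq, Nat.beq_eq] at h
  obtain ⟨g, hg⟩ := conj_octad hc (show wt (cd 11538486) = 8 by rw [wt_cd h.1.1, h.2])
  exact (cm_sign h.1.1 h.1.2).of_conj hg

theorem cm_dodecad {c : golayCode} (hc : wt c = 12) : Cm (signCo0 c) := by
  have h := okD
  rw [Bool.and_eq_true, Bool.and_eq_true, Nat.beq_eq, Nat.beq_eq] at h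
  obtain ⟨g, hg⟩ := conj_dodecad hc (show wt (cd 13553934) = 12 by rw [wt_cd h.1.1, h.2])
  exact (cm_sign h.1.1 h.1.2).of_conj hg

def xm : ℕ := 12785423
def ym : ℕ := 13463644
def Tm : ℕ := 316150451084631660137141560253005269

theorem ok_b0 : (isCode xm && isCode ym && ok Tm && isCode b0m && isCode 16777215 &&
    Nat.beq (pimg idP b0m) b0m && Nat.beq (pimg P2 xm) xm &&
    Nat.beq (pcomp P2 idP) (pcomp idP P2) &&
    Nat.beq (ym ^^^ pimg Tm b0m) (b0m ^^^ pimg P2 ym) &&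
    Nat.beq (pcomp Tm P2) (pcomp P2 Tm) &&
    Nat.beq (16777215 ^^^ pimg idP (ym ^^^ pimg Tm xm)) (xm ^^^ pimg idP ym) &&
    Nat.beq (pcomp idP (pcomp Tm idP)) (pcomp idP Tm)) = true := by decide +kernel

theorem cm_b0 : Cm b0 := by
  have h := ok_b0
  simp only [Bool.and_eq_true, Nat.beq_eq] at h
  obtain ⟨⟨⟨⟨⟨⟨⟨⟨⟨⟨⟨hx, hy⟩, hT⟩, hb⟩, ha⟩, h1⟩, h2⟩, h3⟩, h4⟩, h5⟩, h6⟩, h7⟩ := h
  have hb0 : b0 = mo b0m P2 := rfl
  have hyT : isCode (ym ^^^ pimg Tm xm) = true := isCode_xor hy (isCode_pimg hT hx)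
  refine ⟨mo xm idP, mo ym Tm, ?_, ?_, ?_⟩
  · rw [hb0, mo_mul hx hb ok_idP ok_P2, mo_mul hb hx ok_P2 ok_idP, h1, h2, h3, Nat.xor_comm]
  · rw [hb0, mo_mul hy hb hT ok_P2, mo_mul hb hy ok_P2 hT, h4, h5]
  · rw [ζ_eq, mo_mul hx hy ok_idP hT, mo_mul hy hx hT ok_idP,
      mo_mul ha hyT ok_idP (ok_pcomp hT ok_idP), h6, h7]

/-! ### Involutions -/

theorem cases (k : Co0) (h2 : k * k = 1) (h1 : k ≠ 1) (hz : k ≠ ζ) : P k ∨ P (ζ * k) ∨ D k := by
  obtain ⟨g, c, hg⟩ := conj_sign_of_sq_one k h2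
  rcases wt_cases c with h | h | h | h | h
  · exfalso
    apply h1
    rw [eq_zero_of_wt h, signCo0_zero] at hg
    have : k = g⁻¹ * (g * k * g⁻¹) * g := by group
    rw [this, hg]
    group
  · exact Or.inl ⟨g, c, h, hg⟩
  · exact Or.inr (Or.inr ⟨g, c, h, hg⟩)
  · refine Or.inr (Or.inl ⟨g, c + allOne, ?_, ?_⟩)
    · have := wt_add_allOne c; omega
    · rw [← mul_assoc, ζ_cen, mul_assoc, mul_assoc, ← mul_assoc g, hg, ← signCo0_add, add_comm]
  · exfalso
    apply hz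
    rw [eq_allOne_of_wt h] at hg
    have : k = g⁻¹ * (g * k * g⁻¹) * g := by group
    rw [this, hg, ζ_cen]
    group

theorem sq_of_conj {k g : Co0} {c : golayCode} (h : g * k * g⁻¹ = signCo0 c) : k * k = 1 := by
  have h1 : (g * k * g⁻¹) * (g * k * g⁻¹) = 1 := by rw [h, signCo0_mul_self]
  have h2 : k * k = g⁻¹ * ((g * k * g⁻¹) * (g * k * g⁻¹)) * g := by group
  rw [h2, h1]
  group

theorem ne_of_conj {k g : Co0} {c : golayCode} (h : g * k * g⁻¹ = signCo0 c) (h0 : wt c ≠ 0)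
    (h24 : wt c ≠ 24) : k ≠ 1 ∧ k ≠ ζ ∧ k * k = 1 := by
  refine ⟨?_, ?_, sq_of_conj h⟩
  · rintro rfl
    apply sign_ne_one h0
    rw [← h]
    group
  · rintro rfl
    apply sign_ne_ζ h24
    rw [← h, ζ_cen]
    group

theorem conj_of {A : Type*} [Group A] {k l a b g s t : A} (h1 : a * k * a⁻¹ = s)
    (h2 : b * l * b⁻¹ = t) (h3 : g * s * g⁻¹ = t) : ∃ x : A, x * k * x⁻¹ = l := by
  refine ⟨b⁻¹ * g * a, ?_⟩
  have e1 : b⁻¹ * g * a * k * (b⁻¹ * g * a)⁻¹ = b⁻¹ * (g * (a * k * a⁻¹) * g⁻¹) * b := by group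
  rw [e1, h1, h3, ← h2]
  group

/-! ### The centralizer of an octad sign change -/

/-- The centralizer of `k` and that of its conjugate. -/
theorem cent_conj {k g : Co0} {c : golayCode} (h : g * k * g⁻¹ = signCo0 c) (x : Co0) :
    x ∈ (Subgroup.centralizer {k} : Subgroup Co0) ↔ g * x * g⁻¹ ∈ C0 c := by
  rw [mem_centralizer_iff', mem_C0, ← h]
  have e1 : g * x * g⁻¹ * (g * k * g⁻¹) = g * (x * k) * g⁻¹ := by group
  have e2 : g * k * g⁻¹ * (g * x * g⁻¹) = g * (k * x) * g⁻¹ := by group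
  rw [e1, e2, mul_left_inj, mul_right_inj]

theorem index_conj {k g : Co0} {c : golayCode} (h : g * k * g⁻¹ = signCo0 c) :
    (Subgroup.centralizer {k} : Subgroup Co0).index = (C0 c).index := by
  have h1 : (Subgroup.centralizer {k} : Subgroup Co0).map (MulAut.conj g).toMonoidHom = C0 c := by
    ext x
    constructor
    · rintro ⟨y, hy, rfl⟩
      exact (cent_conj h y).1 hy
    · intro hx
      refine ⟨g⁻¹ * x * g, ?_, ?_⟩
      · rw [SetLike.mem_coe, cent_conj h]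
        have : g * (g⁻¹ * x * g) * g⁻¹ = x := by group
        rwa [this]
      · show g * (g⁻¹ * x * g) * g⁻¹ = x
        group
  rw [← h1]
  exact (Subgroup.index_map_equiv _ (MulAut.conj g)).symm

theorem isPGroup_Rh {o : golayCode} (ho : wt o = 8) : IsPGroup 2 (Rh o) := by
  intro r
  refine ⟨2, ?_⟩
  apply Subtype.ext
  have h1 := Rh_sq ho r.2
  show (r : Co0) ^ (2 ^ 2) = 1
  have h2 : (r : Co0) ^ (2 ^ 2) = ((r : Co0) * r) * ((r : Co0) * r) := by
    rw [← pow_two, ← pow_two, ← pow_mul]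
    norm_num
  rw [h2]
  rcases h1 with h1 | h1
  · rw [h1, one_mul]
  · rw [h1, signCo0_mul_self]

theorem lab_octad {o : golayCode} (ho : wt o = 8) : Lab (C0 o) (signCo0 (o + allOne)) := by
  refine ⟨Rh o, Rh_le_C0 ho, isPGroup_Rh ho, fun g hg x hx => Rh_conj hg hx, ?_⟩
  obtain ⟨r, hr, s, hs, hne⟩ := RIrr.exists_noncomm ho
  have h1 := (Rh_mul ho hr hs).resolve_left hne
  have h2 : signCo0 (o + allOne) = ⁅r, s⁆ := by
    rw [commutatorElement_def, h1]
    group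
  rw [h2]
  exact Subgroup.commutator_mem_commutator hr hs

/-! ### The explicit triples -/

theorem conj_one {A : Type*} [Group A] (x : A) : 1 * x * 1⁻¹ = x := by group

theorem okP : (isCode 13062145 && isCode 4845570 && isCode 9347075 &&
    Nat.beq (13062145 ^^^ 4845570) 9347075 && Nat.beq (popcount 13062145) 8 &&
    Nat.beq (popcount 4845570) 8 && Nat.beq (popcount 9347075) 8) = true := by decide +kernel

theorem okDD : (isCode 8245261 && isCode 15953934 && isCode 9347075 &&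
    Nat.beq (8245261 ^^^ 15953934) 9347075 && Nat.beq (popcount 8245261) 12 &&
    Nat.beq (popcount 15953934) 12 && Nat.beq (popcount 9347075) 8) = true := by decide +kernel

/-- **The facts.** -/
theorem facts : Isolated.Facts Co0 ζ P D where
  one := one_ne
  sq := ζ_sq
  cen := ζ_cen
  center k h := (mem_center_iff k).1 (Subgroup.mem_center_iff.2 h)
  comm k h1 hz h2 := by
    rcases h2 with h2 | h2
    · rcases cases k h2 h1 hz with ⟨g, c, hc, hg⟩ | ⟨g, c, hc, hg⟩ | ⟨g, c, hc, hg⟩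
      · exact (cm_octad hc).of_conj hg
      · have h3 := ((cm_octad hc).of_conj hg).neg
        rwa [← mul_assoc, ζ_sq, one_mul] at h3
      · exact (cm_dodecad hc).of_conj hg
    · obtain ⟨g, hg⟩ := conj_b0_of_sq_neg k h2
      exact cm_b0.of_conj hg
  cases := cases
  P_one k := by
    rintro ⟨g, c, hc, hg⟩
    exact ne_of_conj hg (by omega) (by omega)
  D_one k := by
    rintro ⟨g, c, hc, hg⟩
    exact ne_of_conj hg (by omega) (by omega)
  P_conj k l := by
    rintro ⟨g, c, hc, hg⟩ ⟨g', c', hc', hg'⟩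
    obtain ⟨x, hx⟩ := conj_octad hc hc'
    exact conj_of hg hg' hx
  D_conj k l := by
    rintro ⟨g, c, hc, hg⟩ ⟨g', c', hc', hg'⟩
    obtain ⟨x, hx⟩ := conj_dodecad hc hc'
    exact conj_of hg hg' hx
  D_neg k := by
    rintro ⟨g, c, hc, hg⟩
    refine ⟨g, c + allOne, ?_, ?_⟩
    · have := wt_add_allOne c; omega
    · rw [← mul_assoc, ζ_cen, mul_assoc, mul_assoc, ← mul_assoc g, hg, ← signCo0_add, add_comm]
  odd k := by
    rintro ⟨g, c, hc, hg⟩ h
    rw [index_conj hg] at h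
    have h1 := Perf.odd_index_C0 hc
    rw [Nat.odd_iff] at h1
    omega
  label1 k := by
    rintro ⟨g, c, hc, hg⟩
    have h := (lab_octad hc).conj g (cent_conj hg)
    have e : g⁻¹ * signCo0 (c + allOne) * g = ζ * k := by
      rw [add_comm, signCo0_add, ← hg, ← mul_assoc, ζ_cen]
      group
    rwa [e] at h
  label2 k := by
    rintro ⟨g, c, hc, hg⟩ Q hQ hQ2 hQn hw
    have h : Lab (Subgroup.centralizer {k} : Subgroup Co0) ζ := ⟨Q, hQ, hQ2, hQn, hw⟩
    have h1 := h.conj g⁻¹ (Y := C0 c) (fun x => by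
      rw [cent_conj hg]
      have : g * (g⁻¹ * x * g⁻¹⁻¹) * g⁻¹ = x := by group
      rw [this])
    have e : g⁻¹⁻¹ * ζ * g⁻¹ = ζ := by
      rw [ζ_cen]
      group
    rw [e] at h1
    obtain ⟨Q', h2, h3, h4, h5⟩ := h1
    exact Label.allOne_notMem hc h2 h3 h4 h5
  tripleP := by
    have h := okP
    simp only [Bool.and_eq_true, Nat.beq_eq] at h
    obtain ⟨⟨⟨⟨⟨⟨h1, h2⟩, h3⟩, h4⟩, h5⟩, h6⟩, h7⟩ := h
    refine ⟨signCo0 (cd 13062145), signCo0 (cd 4845570), ?_, ⟨1, _, ?_, conj_one _⟩,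
      ⟨1, _, ?_, conj_one _⟩, ⟨1, cd 9347075, ?_, ?_⟩⟩
    · rw [← signCo0_add, ← signCo0_add, add_comm]
    · rw [wt_cd h1, h5]
    · rw [wt_cd h2, h6]
    · rw [wt_cd h3, h7]
    · rw [← signCo0_add, ← cd_xor h1 h2, h4, conj_one]
  tripleD := by
    have h := okDD
    simp only [Bool.and_eq_true, Nat.beq_eq] at h
    obtain ⟨⟨⟨⟨⟨⟨h1, h2⟩, h3⟩, h4⟩, h5⟩, h6⟩, h7⟩ := h
    refine ⟨signCo0 (cd 8245261), signCo0 (cd 15953934), ?_, ⟨1, _, ?_, conj_one _⟩,
      ⟨1, _, ?_, conj_one _⟩, ⟨1, cd 9347075, ?_, ?_⟩⟩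
    · rw [← signCo0_add, ← signCo0_add, add_comm]
    · rw [wt_cd h1, h5]
    · rw [wt_cd h2, h6]
    · rw [wt_cd h3, h7]
    · rw [← signCo0_add, ← cd_xor h1 h2, h4, conj_one]

end Cfsg.Agent.OddHalf.D9.Co1.Facts
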