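import Cfsg.Agent.OddHalf.D9.Co1.Row
import Cfsg.Agent.KFacts.MulSpor.M24

/-!
# D9: the row `2.Co1`, without hypotheses
-/

set_option autoImplicit false

namespace Cfsg.Agent.OddHalf.D9.Co1.Final

open Subgroup Cfsg Cfsg.Agent.OddHalf.Iface

universe u

/-- `M24` has no perfect double cover -/
theorem noDouble_m24 : Cfsg.Agent.KFacts.MulDef.NoDouble M24 :=
  fun _ _ _ π _ h => Cfsg.Agent.KFacts.MulSpor.M24.no_double h.toCtr π h.surj h.ker

/-- **The row `2.Co1` of D9**, the field `co1` of `Cut.Rows`. -/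
theorem row : Cut.Row.{u} (fun K _ => Cut.Two (fun X _ => Spor.IsoCo1 X) K) := Row.row noDouble_m24

end Cfsg.Agent.OddHalf.D9.Co1.Final
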