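import Cfsg.Agent.OddHalf.D9.Co1.Facts
import Cfsg.Agent.OddHalf.D9.Amb
import Cfsg.Agent.OddHalf.UQ4
import Cfsg.Agent.KFacts.MulCo.CoZero
import Cfsg.Agent.ConwayFacts.AutCo1

/-!
# D9, row `2.Co1`

`row`: no standard component `K` with `|Z(K)| = 2`, `K/Z(K) ≅ Co1` and `C(K)` with cyclic Sylow 2-subgroups.
-/

set_option autoImplicit false

namespace Cfsg.Agent.OddHalf.D9.Co1.Row

open Subgroup Cfsg Cfsg.Agent.OddHalf.Iface Cfsg.Agent.OddHalf.Front.FE
open Cfsg.Agent.SporadicA.Co0Mono Cfsg.Agent.SporadicA.Co1Simple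
open Cfsg.Agent.OddHalf.D9.Isolated (Cfg)
open Cfsg.Agent.OddHalf.D9.Co1.Facts (ζ)

universe u

/-- An isolated involution in a simple group. -/
theorem false_of_isolated {G : Type u} [Group G] [Finite G] [IsSimpleGroup G]
    (hna : ¬ IsMulCommutative G) {z : G} (hz1 : z ≠ 1) (hzz : z * z = 1)
    (h : ∀ g : G, (g * z * g⁻¹) * z = z * (g * z * g⁻¹) → g * z * g⁻¹ = z) : False := by
  rcases UQ4.zstar hz1 hzz with ⟨g, h1, h2⟩ | ⟨N, hN, hodd, hc⟩
  · exact h1 (h g h2)
  · rcases hN.eq_bot_or_eq_top with h1 | h1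
    · have hcen : z ∈ center G := by
        rw [mem_center_iff]
        intro g
        have h2 := hc g
        rw [h1, mem_bot, mul_inv_eq_one, mul_inv_eq_iff_eq_mul] at h2
        exact h2.symm
      have hn : (center G).Normal := inferInstance
      rcases hn.eq_bot_or_eq_top with h2 | h2
      · rw [h2, mem_bot] at hcen
        exact hz1 hcen
      · apply hna
        refine ⟨⟨fun a b => ?_⟩⟩
        have : b ∈ center G := by rw [h2]; trivial
        exact mem_center_iff.1 this a
    · rw [h1, card_top] at hodd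
      have h2 : orderOf z = 2 := by
        have : Fact (Nat.Prime 2) := ⟨Nat.prime_two⟩
        exact orderOf_eq_prime (by rw [pow_two, hzz]) hz1
      have h3 := orderOf_dvd_natCard z
      rw [h2] at h3
      exact (Nat.not_even_iff_odd.2 hodd) (even_iff_two_dvd.2 h3)

theorem row_of_equiv {G : Type u} [Group G] (C : Ctx G) {K : Subgroup G} (S : Std0 G K) (hc : Cyc K)
    (h2 : Nat.card ↥(center ↥K) = 2) (θ : ↥K ≃* Co0) : False := by
  haveI := C.fin
  haveI := C.simple
  obtain ⟨z, q, H, hz, hz1, hr⟩ := Amb.exists_start C S hc h2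
  have hθz : θ z = ζ := by
    have h1 : θ z ∈ center Co0 := by
      rw [mem_center_iff]
      intro g
      obtain ⟨k, rfl⟩ := θ.surjective g
      rw [← map_mul, ← map_mul, mem_center_iff.1 hz k]
    rcases (Cfsg.Agent.CoOneType.ClosingFacts.mem_center_iff _).1 h1 with h3 | h3
    · exact absurd ((map_eq_one_iff θ θ.injective).1 h3) hz1
    · exact h3
  let φ : Co0 →* G := K.subtype.comp θ.symm.toMonoidHom
  have hφ : ∀ x, φ x = ((θ.symm x : ↥K) : G) := fun _ => rfl
  have hφζ : φ ζ = (z : G) := by rw [hφ, ← hθz, θ.symm_apply_apply]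
  have cfg : Cfg ζ φ (zpowers q) := by
    refine ⟨?_, ?_, H.pQ, ?_, ?_, ?_, ?_⟩
    · intro a b h
      exact θ.symm.injective (Subtype.ext h)
    · rw [hφζ]; exact H.tQ
    · intro r hr s hs
      obtain ⟨a, rfl⟩ := mem_zpowers_iff.1 hr
      obtain ⟨b, rfl⟩ := mem_zpowers_iff.1 hs
      rw [← zpow_add, ← zpow_add, add_comm]
    · intro r hr hrr
      by_cases h1 : r = 1
      · exact Or.inl h1
      · right
        rw [hφζ]
        exact H.uniq hr hrr h1
    · intro r hr k
      exact (H.QK r hr _ (θ.symm k).2).symm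
    · intro c hcz
      rw [hφζ] at hcz
      have hn := H.nK c hcz
      -- the automorphism of `K` induced by `c`
      have hmap : ∀ k : ↥K, c * (k : G) * c⁻¹ ∈ K := fun k => (mem_normalizer_iff.1 hn _).1 k.2
      have hmap' : ∀ k : ↥K, c⁻¹ * (k : G) * c ∈ K := fun k => by
        rw [mem_normalizer_iff.1 hn]
        have : c * (c⁻¹ * (k : G) * c) * c⁻¹ = k := by group
        rw [this]
        exact k.2
      let β : MulAut ↥K :=
        { toFun := fun k => ⟨c * k * c⁻¹, hmap k⟩
          invFun := fun k => ⟨c⁻¹ * k * c, hmap' k⟩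
          left_inv := fun k => Subtype.ext (by
            show c⁻¹ * (c * (k : G) * c⁻¹) * c = k
            group)
          right_inv := fun k => Subtype.ext (by
            show c * (c⁻¹ * (k : G) * c) * c⁻¹ = k
            group)
          map_mul' := fun a b => Subtype.ext (by
            show c * ((a : G) * b) * c⁻¹ = (c * a * c⁻¹) * (c * b * c⁻¹)
            group) }
      have hβ : ∀ k : ↥K, ((β k : ↥K) : G) = c * k * c⁻¹ := fun _ => rfl
      obtain ⟨s, hs⟩ := Cfsg.Agent.ConwayFacts.AutCo1.inner_Co0 ((θ.symm.trans β).trans θ)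
      -- `c` acts as `θ⁻¹ s`
      have hact : ∀ k : ↥K, c * (k : G) * c⁻¹ = φ s * k * (φ s)⁻¹ := by
        intro k
        have h3 := hs (θ k)
        rw [MulEquiv.trans_apply, MulEquiv.trans_apply, MulEquiv.symm_apply_apply] at h3
        have h4 : β k = θ.symm s * k * (θ.symm s)⁻¹ := by
          apply θ.injective
          rw [h3, map_mul, map_mul, map_inv, θ.apply_symm_apply]
        rw [← hβ, h4]
        rfl
      refine ⟨s, (φ s)⁻¹ * c, ?_, by group⟩
      apply hr
      intro k hk
      have h3 := hact ⟨k, hk⟩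
      have h4 : c * k * c⁻¹ = φ s * k * (φ s)⁻¹ := h3
      have h5 : (φ s)⁻¹ * c * k = (φ s)⁻¹ * (c * k * c⁻¹) * c := by group
      rw [h5, h4]
      group
  apply false_of_isolated C.na (z := (z : G)) (fun h => hz1 (Subtype.ext h)) H.tt
  intro g hg
  rw [← hφζ] at hg ⊢
  exact cfg.isolated Facts.facts g hg

/-- **The row `2.Co1` of D9.** -/
theorem row (hM : Cfsg.Agent.KFacts.MulDef.NoDouble M24) :
    Cut.Row.{u} (fun K _ => Cut.Two (fun X _ => Spor.IsoCo1 X) K) := by
  intro G _ C K S hc h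
  obtain ⟨h2, ⟨e⟩⟩ := h
  haveI := C.fin
  let f : ↥K →* Spor.Co1 := e.toMonoidHom.comp (QuotientGroup.mk' (center ↥K))
  have hf : Function.Surjective f := e.surjective.comp (QuotientGroup.mk'_surjective _)
  have hker : f.ker = center ↥K := by
    ext x
    rw [MonoidHom.mem_ker, ← QuotientGroup.eq_one_iff (N := center ↥K) x]
    show e (QuotientGroup.mk' (center ↥K) x) = 1 ↔ _
    exact map_eq_one_iff e e.injective
  obtain ⟨θ, -⟩ := Cfsg.Agent.KFacts.MulCo.CoZero.exists_equiv_co0 hM (Amb.commutator_eq_top S) hf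
    hker.le (by rw [hker]; exact S.z2) (by
      rw [hker]
      intro h
      rw [h, card_bot] at h2
      omega)
  exact row_of_equiv C S hc h2 θ

end Cfsg.Agent.OddHalf.D9.Co1.Row
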